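import Groth.Agent.Lib.HilbSm18.Point
import Groth.Agent.Lib.HilbConn18.Main
import Groth.Agent.Lib.HilbObs3.HB
import Groth.Agent.Lib.HilbObs3.Vanish
import Groth.Agent.S11460
import Groth.Agent.Lib.Ram25.Scheme
import Groth.Agent.Lib.RefHull26.HomExt
import Groth.Agent.Lib.RegLoc.Basic
import Groth.Agent.Lib.Depth.CM
import Mathlib.AlgebraicGeometry.Morphisms.Finite

/-!
# Hilbert schemes of points of surfaces are regular
-/

set_option autoImplicit false
set_option linter.style.haveILetI false
set_option linter.unusedSectionVars false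
set_option backward.isDefEq.respectTransparency.types false

universe u

open CategoryTheory CategoryTheory.Limits AlgebraicGeometry TopologicalSpace

attribute [local instance] HasDerivedCategory.standard

namespace Groth.Agent.HilbSm18

open ArtFun ArtFun.Art Groth.Agent.HilbPt3

/-- A connected scheme with domains as local rings is irreducible. -/
theorem irreducibleSpace_of_domain {X : Scheme.{u}} [IsLocallyNoetherian X] [ConnectedSpace X]
    (hdom : ∀ x : X, IsDomain (X.presheaf.stalk x)) : IrreducibleSpace X := by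
  have key : ∀ x : X, ∃ V : Set X, IsOpen V ∧ x ∈ V ∧ IsIrreducible V := by
    intro x
    obtain ⟨U, hU, hxU, -⟩ := exists_isAffineOpen_mem_and_subset (X := X) (x := x) (U := ⊤) trivial
    haveI : IsAffine U.toScheme := hU
    haveI : IsNoetherian U.toScheme := {}
    obtain ⟨V, hxV, η, hη, hV⟩ := RH26.exists_irreducible_nhd_of_domain (X := U.toScheme)
      (fun z => haveI := hdom z.1; (U.stalkIso z).commRingCatIsoToRingEquiv.toMulEquiv.isDomain) ⟨x, hxU⟩
    have hηV : η ∈ V := hη.mem_open V.2 hxV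
    refine ⟨U.ι '' (V : Set U.toScheme), U.ι.isOpenEmbedding.isOpenMap _ V.2, ⟨_, hxV, rfl⟩, ?_⟩
    exact IsIrreducible.image (f := U.ι) ⟨⟨η, hηV⟩, fun u v hu hv ⟨a, haV, hau⟩ ⟨b, hbV, hbv⟩ =>
      ⟨η, hηV, (hV a haV).mem_open hu hau, (hV b hbV).mem_open hv hbv⟩⟩ U.ι.continuous.continuousOn
  choose V hV hxV hirr using key
  haveI : PreirreducibleSpace X := ⟨fun u v hu hv ⟨a, _, hau⟩ ⟨b, _, hbv⟩ => by
    let S : Set X := ⋃ x ∈ {x | (V x ∩ u).Nonempty}, V x
    have hSo : IsOpen S := isOpen_biUnion fun i _ => hV i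
    have hSc : IsClosed S := by
      rw [← isOpen_compl_iff]
      have : Sᶜ = ⋃ x ∈ {x | ¬ (V x ∩ u).Nonempty}, V x := by
        ext z
        constructor
        · intro hz
          exact Set.mem_biUnion (show z ∈ {x | ¬ (V x ∩ u).Nonempty} from
            fun h => hz (Set.mem_biUnion (show z ∈ {x | (V x ∩ u).Nonempty} from h) (hxV z))) (hxV z)
        · intro hz hzS
          obtain ⟨j, hj, hzj⟩ := Set.mem_iUnion₂.1 hz
          obtain ⟨i, hi, hzi⟩ := Set.mem_iUnion₂.1 hzS
          obtain ⟨w, -, hwj, hwu⟩ := (hirr i).2 (V j) u (hV j) hu ⟨z, hzi, hzj⟩ hi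
          exact hj ⟨w, hwj, hwu⟩
      rw [this]
      exact isOpen_biUnion fun i _ => hV i
    have hS : S = Set.univ := IsClopen.eq_univ ⟨hSc, hSo⟩
      ⟨a, Set.mem_biUnion (show a ∈ {x | (V x ∩ u).Nonempty} from ⟨a, hxV a, hau⟩) (hxV a)⟩
    obtain ⟨i, hi, hbi⟩ := Set.mem_iUnion₂.1 (hS.ge (Set.mem_univ b))
    obtain ⟨w, -, hwu, hwv⟩ := (hirr i).2 u v hu hv hi ⟨b, hbi, hbv⟩
    exact ⟨w, trivial, hwu, hwv⟩⟩
  exact ⟨inferInstance⟩

variable {k : Type u} [Field k] [IsAlgClosed k] {Y : Scheme.{u}} (f : Y ⟶ Art.specPt k)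
  [IsSeparated f] [QuasiCompact f] [Smooth f]
  (hdim : ∀ y : Y, IsClosed ({y} : Set Y) → ringKrullDim (Y.presheaf.stalk y) = 2)

include hdim in
/-- Deformations of points on a smooth surface are unobstructed. -/
theorem surjective_map_finite (I₀ : Y.IdealSheafData) [IsFinite (I₀.subschemeι ≫ f)]
    {B A : Art k k} (p : B ⟶ A) (hp : IsSmallExt p) :
    Function.Surjective ((ArtFun.localHilb Y f I₀).map p) := by
  haveI : IsLocallyNoetherian Y := LocallyOfFiniteType.isLocallyNoetherian f
  haveI : CompactSpace Y := QuasiCompact.compactSpace_of_compactSpace f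
  haveI : IsNoetherian Y := {}
  haveI : IsLocallyNoetherian I₀.subscheme := LocallyOfFiniteType.isLocallyNoetherian I₀.subschemeι
  haveI : JacobsonSpace I₀.subscheme := LocallyOfFiniteType.jacobsonSpace (I₀.subschemeι ≫ f)
  haveI : Finite I₀.subscheme := by
    haveI : Subsingleton ↥(Art.specPt k) := inferInstanceAs (Subsingleton (PrimeSpectrum k))
    refine Set.finite_univ_iff.1 ?_
    exact ((I₀.subschemeι ≫ f).finite_preimage_singleton (⊥ : PrimeSpectrum k)).subset
      fun z _ => Subsingleton.elim _ _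
  haveI : DiscreteTopology I₀.subscheme := JacobsonSpace.discreteTopology (Set.toFinite _)
  have h0 : ∀ z : I₀.subscheme, ringKrullDim (I₀.subscheme.presheaf.stalk z) = 0 := fun z => by
    rw [ringKrullDim_stalk_eq_coheight, ← WithBot.coe_zero, WithBot.coe_inj, Order.coheight_eq_zero]
    intro y hy
    have : y ⤳ z := hy
    rw [(this.eq : y = z)]
  have hCM : ∀ z : I₀.subscheme, LocCoh.IsCohenMacaulayLocalRing (I₀.subscheme.presheaf.stalk z) := fun z =>
    { supportDim_eq_depth := le_antisymm
        (by rw [Module.supportDim_self_eq_ringKrullDim, h0 z]; exact WithBot.coe_le_coe.2 zero_le)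
        DepthLib.depth_le_supportDim }
  haveI : IsAffine I₀.subscheme := isAffine_of_isAffineHom (I₀.subschemeι ≫ f)
  haveI : DCoh.HasSheafHom (Omega.conormal I₀.subschemeι) := HilbObs3.hasSheafHom _
  obtain ⟨e'⟩ := HilbObs3.nonempty_sheafHom_iso (Omega.conormal I₀.subschemeι) (Coh.structureModule I₀.subscheme)
  haveI hq : ((DCoh.sheafHom (Omega.conormal I₀.subschemeι)).obj (Coh.structureModule I₀.subscheme)).IsQuasicoherent :=
    (SheafOfModules.isQuasicoherent I₀.subscheme.ringCatSheaf).prop_of_iso (show _ ≅ _ from e'.symm)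
      (HomShH7.isQCoh_homMod (M1.isFP_pullback _ (M1.isFP_of_isCoh (CurveCoh17.isCoh_idealMod _)))
        (M1.isQCoh_structureModule _))
  refine HilbObs3.surjective_map_of_local f p hp
    (HilbObs3.subsingleton_HH_homMod I₀ (CohFound.subsingleton_HH_affine _ 1 one_pos)) fun J t ht z => ?_
  have hcl : ∀ z : I₀.subscheme, IsClosed ({I₀.subschemeι.base z} : Set Y) := fun z => by
    rw [← Set.image_singleton]
    exact I₀.subschemeι.isClosedEmbedding.isClosedMap _ (isClosed_discrete _)
  obtain ⟨U, hz, r, φ, hI, hinj, hex⟩ := S11460.result k Y I₀.subscheme f I₀.subschemeι hCM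
    (fun z => by rw [h0 z, zero_add, hdim _ (hcl z)]) z
  rw [Scheme.IdealSheafData.ker_subschemeι] at hI
  exact ⟨U, hz, HilbObs3.exists_liftOn_of_minors _ p J hp ht U φ hI hinj hex⟩

variable {n : ℕ} {H : Over (Art.specPt k)} {Z : HilbD.Obj f n H}

include hdim in
/-- The Hilbert scheme of points is regular. -/
theorem isRegular_hilb (hH : HilbD.IsUniversal f n H Z) [LocallyOfFiniteType H.hom] (w : H.left) :
    IsRegularLocalRing (H.left.presheaf.stalk w) := by
  haveI : IsLocallyNoetherian H.left := LocallyOfFiniteType.isLocallyNoetherian H.hom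
  haveI : JacobsonSpace H.left := LocallyOfFiniteType.jacobsonSpace H.hom
  obtain ⟨w₀, hw₀, hc⟩ := (jacobsonSpace_iff_locallyClosed.1 ‹JacobsonSpace H.left›) (closure {w})
    ⟨w, subset_closure rfl⟩ isClosed_closure.isLocallyClosed
  suffices IsRegularLocalRing (H.left.presheaf.stalk w₀) by
    haveI := this
    exact Ram25.isRegularLocalRing_of_specializes (specializes_iff_mem_closure.2 hw₀)
  let h : (Pt : Over (Art.specPt k)) ⟶ H :=
    Over.homMk (pointOfClosedPoint H.hom w₀ hc) (pointOfClosedPoint_comp H.hom w₀ hc)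
  let K := HilbD.pull f h Z.1
  let I₀ : Y.IdealSheafData := K.comap (jPt f)
  haveI : IsIso (jPt f) := ⟨_, jPt_fst f, fst_jPt f⟩
  haveI : IsFinite (I₀.subschemeι ≫ f) := by
    have h1 : IsFinite (K.subschemeι ≫ PicF.XTproj f (Pt : Over (Art.specPt k))) :=
      (HilbBC25.isFinLocFreeOfDeg_pull f n h Z.1 Z.2).1.1
    have e : I₀.subschemeι ≫ f = ((K.comapIso (jPt f)).hom ≫ pullback.snd (jPt f) K.subschemeι) ≫
        K.subschemeι ≫ PicF.XTproj f (Pt : Over (Art.specPt k)) := by
      rw [Category.assoc, ← Category.assoc (pullback.snd (jPt f) K.subschemeι), ← pullback.condition,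
        Category.assoc, ← Category.assoc, Scheme.IdealSheafData.comapIso_hom_fst]
      congr 1
      exact (pullback.lift_snd (𝟙 Y) f _).symm
    haveI := h1
    rw [e]
    infer_instance
  have hh : HilbD.pull f h Z.1 = I₀.comap (pullback.fst f (Pt : Over (Art.specPt k)).hom) := by
    show K = (K.comap (jPt f)).comap _
    rw [← Scheme.IdealSheafData.comap_comp, fst_jPt, Scheme.IdealSheafData.comap_id]
  have hreg := isRegularLocalRing_stalk hH h hh fun p hp => surjective_map_finite f hdim I₀ p hp
  have hpt : pt h = w₀ := pointOfClosedPoint_apply H.hom w₀ hc _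
  rw [hpt] at hreg
  exact hreg

include hdim in
/-- A connected Hilbert scheme of points of a surface is irreducible. -/
theorem irreducible_hilb (hH : HilbD.IsUniversal f n H Z) [LocallyOfFiniteType H.hom] [ConnectedSpace H.left] :
    IrreducibleSpace H.left := by
  haveI : IsLocallyNoetherian H.left := LocallyOfFiniteType.isLocallyNoetherian H.hom
  exact irreducibleSpace_of_domain fun w => haveI := isRegular_hilb f hdim hH w; RegLoc.isDomain _

end Groth.Agent.HilbSm18
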