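import Groth.Agent.Lib.HilbSm18.Tangent
import Groth.Agent.Lib.HilbSm18.Regular
import Groth.Agent.Lib.HilbConn18.Main
import Groth.Agent.Lib.SmDim19.RelDimVariety
import Groth.Agent.Lib.WeilExt.Apply
import Groth.Agent.Lib.FinAffine12.Proj

/-!
# The dimension of the Hilbert scheme of points of a surface
-/

set_option autoImplicit false
set_option linter.style.haveILetI false
set_option linter.unusedSectionVars false
set_option backward.isDefEq.respectTransparency.types false

universe u

open CategoryTheory CategoryTheory.Limits AlgebraicGeometry TopologicalSpace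

attribute [local instance] HasDerivedCategory.standard

namespace Groth.Agent.HilbSm18

open Groth.Agent.HilbRep25 Groth.Agent.HilbProj18 Groth.Agent.HilbConn18

variable {k : Type u} [Field k]

/-- The stalk at a point of an affine open is the localisation. -/
theorem nonempty_stalk_localization {X : Scheme.{u}} {A : Type u} [CommRing A] (j : Spec (CommRingCat.of A) ⟶ X)
    [IsOpenImmersion j] (P : Ideal A) [hP : P.IsPrime] :
    Nonempty (X.presheaf.stalk (j (⟨P, hP⟩ : PrimeSpectrum A)) ≃+* Localization.AtPrime P) := by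
  let x : PrimeSpectrum A := ⟨P, hP⟩
  let St := (Spec (CommRingCat.of A)).presheaf.stalk x
  letI : Algebra A St := StructureSheaf.stalkAlgebra A x
  haveI : IsLocalization.AtPrime St P := StructureSheaf.IsLocalization.to_stalk A x
  exact ⟨(asIso (j.stalkMap x)).commRingCatIsoToRingEquiv.trans
    (IsLocalization.algEquiv P.primeCompl St (Localization.AtPrime P)).toRingEquiv⟩

/-- The cotangent space at a rational point of a regular chart. -/
theorem finrank_cotangent_of_chart {X : Scheme.{u}} {A : Type u} [CommRing A] [Algebra k A]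
    (j : Spec (CommRingCat.of A) ⟶ X) [IsOpenImmersion j] (θ : A →ₐ[k] k) [hP : (RingHom.ker θ).IsPrime] {d : ℕ}
    (hreg : IsRegularLocalRing (X.presheaf.stalk (j (⟨RingHom.ker θ, hP⟩ : PrimeSpectrum A))))
    (hd : ringKrullDim (X.presheaf.stalk (j (⟨RingHom.ker θ, hP⟩ : PrimeSpectrum A))) = d) :
    Module.finrank k (RingHom.ker θ).Cotangent = d := by
  obtain ⟨e⟩ := nonempty_stalk_localization j (RingHom.ker θ)
  haveI := hreg
  haveI : IsRegularLocalRing (Localization.AtPrime (RingHom.ker θ)) := IsRegularLocalRing.of_ringEquiv e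
  have h := (IsRegularLocalRing.iff_finrank_cotangentSpace _).1 ‹IsRegularLocalRing (Localization.AtPrime (RingHom.ker θ))›
  rw [finrank_cotangentSpace_localization θ, ← ringKrullDim_eq_of_ringEquiv e, hd] at h
  exact_mod_cast h

variable [IsAlgClosed k] {Y : Scheme.{u}} (f : Y ⟶ Spec (CommRingCat.of k))
  [IsSeparated f] [QuasiCompact f] [Smooth f]

include f in
/-- A connected smooth scheme is irreducible with local rings of constant dimension at closed points. -/
theorem irreducible_and_dim [ConnectedSpace Y] {d : ℕ} (hd : topologicalKrullDim Y = d) :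
    IrreducibleSpace Y ∧ ∀ y : Y, IsClosed ({y} : Set Y) → ringKrullDim (Y.presheaf.stalk y) = d := by
  haveI : IsLocallyNoetherian Y := LocallyOfFiniteType.isLocallyNoetherian f
  haveI : IrreducibleSpace Y := irreducibleSpace_of_domain fun y =>
    haveI := WeilExt.isRegularLocalRing_stalk_of_smooth f y; RegLoc.isDomain _
  exact ⟨inferInstance, fun y hy => SmDim19.ringKrullDim_stalk_closed f hd hy⟩

include f in
/-- A surface has infinitely many closed points. -/
theorem exists_closed_notMem (hdim : topologicalKrullDim Y = (2 : ℕ)) (E : Set Y) (hE : E.Finite) :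
    ∃ y : Y, IsClosed ({y} : Set Y) ∧ y ∉ E := by
  haveI : JacobsonSpace Y := LocallyOfFiniteType.jacobsonSpace f
  by_contra hcon
  push Not at hcon
  have hfin : (closedPoints Y).Finite := hE.subset fun y hy => hcon y hy
  haveI := JacobsonSpace.discreteTopology hfin
  have h := topologicalKrullDim_zero_of_discreteTopology Y
  rw [hdim] at h
  exact absurd (by exact_mod_cast h : (2 : ℕ) ≤ 0) (by norm_num)

variable (hdim : ∀ y : Y, IsClosed ({y} : Set Y) → ringKrullDim (Y.presheaf.stalk y) = 2)
  (hfin : ∀ E : Set Y, E.Finite → ∃ U : Y.Opens, IsAffineOpen U ∧ E ⊆ U)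
  (hinf : ∀ E : Set Y, E.Finite → ∃ y : Y, IsClosed ({y} : Set Y) ∧ y ∉ E)
  {n : ℕ} {H : Over (Spec (CommRingCat.of k))} {Z : HilbD.Obj f n H} (hH : HilbD.IsUniversal f n H Z)

include hdim hfin hinf hH in
/-- The irreducible Hilbert scheme of `n` points of a surface has dimension `2 n`. -/
theorem dim_hilb [LocallyOfFiniteType H.hom] [IrreducibleSpace H.left] :
    topologicalKrullDim H.left = (2 * n : ℕ) := by
  classical
  have hinf' : (closedPoints Y).Infinite := fun h => by
    obtain ⟨y, hy, hyn⟩ := hinf _ h
    exact hyn hy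
  let emb := hinf'.natEmbedding
  let y : Fin n → Y := fun i => (emb i.1).1
  have hy : Function.Injective y := fun i j h => Fin.ext (emb.injective (Subtype.ext h))
  have hyc : ∀ i, IsClosed ({y i} : Set Y) := fun i => (emb i.1).2
  obtain ⟨U, hU, hEU⟩ := hfin (Set.range y) (Set.finite_range y)
  obtain ⟨c, hc⟩ := exists_ch f hU
  choose p hp using fun i => exists_ev c (hyc i) (hc.ge (hEU ⟨i, rfl⟩))
  have hpinj : ∀ i j, i ≠ j → RingHom.ker (p i) ≠ RingHom.ker (p j) := fun i j hij h => by
    refine hij (hy ?_)
    rw [← hp i, ← hp j]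
    exact congrArg c.u (PrimeSpectrum.ext h)
  have hmax : ∀ i, (RingHom.ker (p i)).IsMaximal := fun i =>
    RingHom.ker_isMaximal_of_surjective (p i) fun a => ⟨algebraMap k c.C a, (p i).commutes a⟩
  have hcop : Pairwise fun i j => IsCoprime (RingHom.ker (p i) ^ 2) (RingHom.ker (p j) ^ 2) := fun i j hij =>
    (Ideal.isCoprime_iff_sup_eq.2 ((hmax i).coprime_of_ne (hmax j) (hpinj i j hij))).pow
  choose β hβ using fun i => Ideal.exists_forall_sub_mem_ideal hcop (fun j => if i = j then 1 else 0)
  let x₀ : c.C → Fin n → k := fun a i => p i a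
  have hx₀ : IsCoord k β x₀ := isCoord_homs p hβ (AlgHom.id k k)
    (fun a b ha _ => by simp [show a = 0 from ha]) p (fun i a => rfl)
  obtain ⟨θ, hθ, -⟩ := existsUnique_lift hx₀
  obtain ⟨k₀, -, hopen, -⟩ := exists_chartHom Z hH c.F β
  haveI := hopen
  haveI := RingHom.ker_isPrime θ
  have hm : (RingHom.ker θ).IsMaximal :=
    RingHom.ker_isMaximal_of_surjective θ fun a => ⟨algebraMap k (Univ k β) a, θ.commutes a⟩
  let P : PrimeSpectrum (Univ k β) := ⟨RingHom.ker θ, inferInstance⟩
  haveI : JacobsonSpace H.left := LocallyOfFiniteType.jacobsonSpace H.hom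
  have hP : IsClosed ({k₀.left P} : Set H.left) := by
    refine isClosed_singleton_of_isLocallyClosed_singleton ?_
    rw [← Set.image_singleton]
    exact ((PrimeSpectrum.isClosed_singleton_iff_isMaximal P).2 hm).isLocallyClosed.image
      k₀.left.isOpenEmbedding.isInducing k₀.left.isOpenEmbedding.isOpen_range.isLocallyClosed
  have hreg := isRegular_hilb f hdim hH (k₀.left P)
  -- the cotangent spaces at the points
  haveI : ∀ i, (RingHom.ker (p i)).IsPrime := fun i => (hmax i).isPrime
  haveI : IsLocallyNoetherian Y := LocallyOfFiniteType.isLocallyNoetherian f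
  have h2 : ∀ i, Module.finrank k (RingHom.ker (p i)).Cotangent = 2 := fun i =>
    finrank_cotangent_of_chart c.u (p i) (WeilExt.isRegularLocalRing_stalk_of_smooth f _)
      ((hdim (c.at' (p i)) (by rw [hp]; exact hyc i)).trans (by norm_num))
  haveI : ∀ i, Module.Finite k (RingHom.ker (p i)).Cotangent := fun i =>
    FiniteDimensional.of_finrank_pos (by rw [h2]; norm_num)
  have hT : Module.finrank k (RingHom.ker θ).Cotangent = 2 * n := by
    rw [finrank_cotangent_univ p hβ θ hθ]
    simp [h2, mul_comm]
  haveI : IsLocallyNoetherian H.left := LocallyOfFiniteType.isLocallyNoetherian H.hom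
  obtain ⟨e⟩ := nonempty_stalk_localization k₀.left (RingHom.ker θ)
  haveI : IsRegularLocalRing (H.left.presheaf.stalk (k₀.left P)) := hreg
  haveI : IsRegularLocalRing (Localization.AtPrime (RingHom.ker θ)) := IsRegularLocalRing.of_ringEquiv e
  have h3 := (IsRegularLocalRing.iff_finrank_cotangentSpace _).1 ‹IsRegularLocalRing (Localization.AtPrime (RingHom.ker θ))›
  rw [finrank_cotangentSpace_localization θ, hT, ← ringKrullDim_eq_of_ringEquiv e] at h3
  obtain ⟨d, hd⟩ : ∃ d : ℕ, topologicalKrullDim H.left = d :=
    ⟨_, VarDim.dim_eq_sdim_genericPoint H.hom⟩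
  rw [hd, ← SmDim19.ringKrullDim_stalk_closed H.hom hd hP]
  exact h3.symm

include hdim in
/-- The Hilbert scheme of points of a connected surface is connected, regular, irreducible of dimension `2 n`. -/
theorem hilb_surface [ConnectedSpace Y] (hfin : ∀ E : Set Y, E.Finite → ∃ U : Y.Opens, IsAffineOpen U ∧ E ⊆ U)
    (hinf : ∀ E : Set Y, E.Finite → ∃ y : Y, IsClosed ({y} : Set Y) ∧ y ∉ E)
    (hH : HilbD.IsUniversal f n H Z) :
    ConnectedSpace H.left ∧ (∀ h : H.left, IsRegularLocalRing (H.left.presheaf.stalk h)) ∧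
      IrreducibleSpace H.left ∧ topologicalKrullDim H.left = (2 * n : ℕ) := by
  haveI : IsLocallyNoetherian Y := LocallyOfFiniteType.isLocallyNoetherian f
  haveI : CompactSpace Y := QuasiCompact.compactSpace_of_compactSpace f
  haveI : IsNoetherian Y := {}
  haveI : JacobsonSpace Y := LocallyOfFiniteType.jacobsonSpace f
  have hsep : Y.IsSeparated := Scheme.IsSeparated.mk (by rw [← terminal.comp_from f]; infer_instance)
  haveI := locallyOfFiniteType_hilb hH hfin
  haveI : ConnectedSpace H.left := connected_hilb hsep hfin hinf n H Z hH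
  haveI : IrreducibleSpace H.left := irreducible_hilb f hdim hH
  exact ⟨inferInstance, fun h => isRegular_hilb f hdim hH h, inferInstance, dim_hilb f hdim hfin hinf hH⟩

end Groth.Agent.HilbSm18
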