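import Groth.Agent.Lib.HilbPt3.Hilb
import Groth.Prelude.Def_HilbD
import Mathlib.AlgebraicGeometry.Morphisms.FlatRank
import Mathlib.AlgebraicGeometry.ZariskisMainTheorem

/-!
# Local rings of a Hilbert scheme of points at rational points
-/

set_option autoImplicit false
set_option linter.style.haveILetI false
set_option linter.unusedSectionVars false
set_option backward.isDefEq.respectTransparency.types false

universe u

open CategoryTheory CategoryTheory.Limits AlgebraicGeometry IsLocalRing

namespace Groth.Agent.HilbSm18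

open ArtFun ArtFun.Art Groth.Agent.HilbPt3

variable {k : Type u} [Field k] {X : Scheme.{u}} (x : X ⟶ Art.specPt k) [IsSeparated x] [LocallyOfFiniteType x]

/-- A family of points as a family of subschemes. -/
noncomputable def toHilbSet {d : ℕ} {H : Over (Art.specPt k)} (Z : HilbD.Obj x d H) : FGA.HilbSet x H :=
  ⟨Z.1, by
    haveI : IsFinite (Z.1.subschemeι ≫ PicF.XTproj x H) := Z.2.1.1
    exact ⟨inferInstance, Z.2.1.2.1⟩⟩

theorem finLocFree_artin {d : ℕ} (A : Art k k) (J : (PicF.XT x (TA A)).IdealSheafData)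
    [Flat (J.subschemeι ≫ PicF.XTproj x (TA A))]
    (h0 : Mor2.IsFinLocFreeOfDeg d ((HilbD.pull x (resHom A) J).subschemeι ≫ PicF.XTproj x Pt)) :
    Mor2.IsFinLocFreeOfDeg d (J.subschemeι ≫ PicF.XTproj x (TA A)) := by
  haveI := isLocallyNoetherian_spec A
  let P := pullback (PicF.XTmap x (resHom A)) J.subschemeι
  let q : P ⟶ J.subscheme := pullback.snd (PicF.XTmap x (resHom A)) J.subschemeι
  let g := J.subschemeι ≫ PicF.XTproj x (TA A)
  let g₀ := pullback.fst (PicF.XTmap x (resHom A)) J.subschemeι ≫ PicF.XTproj x Pt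
  have hsq : IsPullback q g₀ g (resHom A).left := HilbBC25.isPullback_subscheme x (resHom A) J
  have h0' : Mor2.IsFinLocFreeOfDeg d g₀ := by
    rw [HilbBC25.pull_eq_comap] at h0
    obtain ⟨⟨a1, a2, a3⟩, a4⟩ := h0
    have e : g₀ = (J.comapIso (PicF.XTmap x (resHom A))).inv ≫
        (J.comap (PicF.XTmap x (resHom A))).subschemeι ≫ PicF.XTproj x Pt := by
      rw [Scheme.IdealSheafData.comapIso_inv_subschemeι_assoc]
    rw [e]
    exact ⟨⟨inferInstance, inferInstance, inferInstance⟩, fun y => by
      rw [Scheme.Hom.finrank_comp_left_of_isIso]; exact a4 y⟩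
  haveI : IsFinite g₀ := h0'.1.1
  haveI hsub : Subsingleton ↥(TA A).left := ⟨fun a b => by
    have key : ∀ c : PrimeSpectrum A, c = closedPoint A := fun c =>
      PrimeSpectrum.ext (IsLocalRing.eq_maximalIdeal (IsArtinianRing.isMaximal_of_isPrime c.asIdeal))
    exact (key a).trans (key b).symm⟩
  haveI : IsFinite (resHom A).left := by
    show IsFinite (Spec.map _)
    rw [IsFinite.SpecMap_iff]
    exact RingHom.Finite.of_surjective _ fun c => ⟨algebraMap k A c, A.res.commutes c⟩
  haveI : Surjective (resHom A).left := ⟨fun t => ⟨(⊥ : PrimeSpectrum k), Subsingleton.elim _ _⟩⟩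
  haveI : Surjective q := MorphismProperty.of_isPullback (P := @Surjective) hsq.flip inferInstance
  haveI : UniversallyClosed (q ≫ g) := by rw [hsq.w]; infer_instance
  haveI : UniversallyClosed g := UniversallyClosed.of_comp_surjective q g
  haveI : IsSeparated g := inferInstance
  haveI : LocallyOfFiniteType g := inferInstance
  haveI : IsProper g := {}
  haveI : Finite ↥P := by
    refine Set.finite_univ_iff.1 ?_
    haveI : Subsingleton ↥(Pt : Over (Art.specPt k)).left := inferInstanceAs (Subsingleton (PrimeSpectrum k))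
    exact (g₀.finite_preimage_singleton (⊥ : PrimeSpectrum k)).subset fun z _ => Subsingleton.elim _ _
  haveI : Finite ↥J.subscheme := Finite.of_surjective q q.surjective
  haveI : LocallyQuasiFinite g :=
    LocallyQuasiFinite.of_finite_preimage_singleton g fun y => Set.toFinite _
  haveI : IsFinite g := IsFinite.of_isProper_of_locallyQuasiFinite g
  refine ⟨⟨inferInstance, inferInstance, inferInstance⟩, fun y => ?_⟩
  obtain rfl : y = (resHom A).left (⊥ : PrimeSpectrum k) := Subsingleton.elim _ _
  rw [← Scheme.Hom.finrank_of_isPullback q g₀ g (resHom A).left hsq]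
  exact h0'.2 _

variable {x} {d : ℕ} {I₀ : X.IdealSheafData} {H : Over (Art.specPt k)} {Z : HilbD.Obj x d H}
  (hH : HilbD.IsUniversal x d H Z) (h : Pt ⟶ H)
  (hh : HilbD.pull x h Z.1 = I₀.comap (pullback.fst x (Pt : Over (Art.specPt k)).hom))

include hh in
/-- The deformation of an Artinian point. -/
noncomputable def toDef (A : Art k k) (φ : PtsAt h A) : (ArtFun.localHilb X x I₀).obj A :=
  toHilb (Z := toHilbSet x Z) x h hh A φ

include hH hh in
theorem toDef_bijective (A : Art k k) : Function.Bijective (toDef h hh A) := by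
  refine ⟨fun φ φ' e => Subtype.ext ?_, fun J => ?_⟩
  · refine (hH (TA A) ⟨_, HilbBC25.isFinLocFreeOfDeg_pull x d φ.1 Z.1 Z.2⟩).unique rfl ?_
    show HilbD.pull x φ'.1 Z.1 = HilbD.pull x φ.1 Z.1
    rw [HilbBC25.pull_eq_comap, HilbBC25.pull_eq_comap]
    exact (congrArg Subtype.val e).symm
  · haveI : Flat (J.1.subschemeι ≫ PicF.XTproj x (TA A)) := J.2.1
    have hres0 : HilbD.pull x (resHom A) J.1 = HilbD.pull x h Z.1 := by
      rw [hh, ← congrArg (Scheme.IdealSheafData.comap · _) J.2.2, HilbBC25.pull_eq_comap]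
      generalize J.1 = K
      rw [XAincl_eq, ← Scheme.IdealSheafData.comap_comp, ← Category.assoc, fst_jPt, Category.id_comp]
    obtain ⟨φ, hφ, -⟩ := hH (TA A) ⟨J.1, finLocFree_artin x A J.1
      (by rw [hres0]; exact HilbBC25.isFinLocFreeOfDeg_pull x d h Z.1 Z.2)⟩
    have hres : resHom A ≫ φ = h := by
      refine (hH Pt ⟨_, HilbBC25.isFinLocFreeOfDeg_pull x d h Z.1 Z.2⟩).unique ?_ rfl
      rw [HilbBC25.pull_comp, hφ]
      exact hres0
    exact ⟨⟨φ, hres⟩, Subtype.ext ((HilbBC25.pull_eq_comap x φ Z.1).symm.trans hφ)⟩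

include hh in
/-- From points of the local ring to the local Hilbert functor. -/
noncomputable def toFun (A : Art k k) (ψ : (hR (H.left.presheaf.stalk (pt h)) (augO h)).obj A) :
    (ArtFun.localHilb X x I₀).obj A :=
  toDef h hh A (ofHomSet h A ψ)

theorem toFun_map {A B : Art k k} (g : A ⟶ B) (ψ) :
    (ArtFun.localHilb X x I₀).map g (toFun h hh A ψ) =
      toFun h hh B ((hR (H.left.presheaf.stalk (pt h)) (augO h)).map g ψ) := by
  refine (toHilb_map (Z := toHilbSet x Z) x h hh g _).trans ?_
  exact congrArg (toDef h hh B) (ofHomSet_map h g ψ)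

include hH in
theorem toFun_bijective (A : Art k k) : Function.Bijective (toFun h hh A) :=
  (toDef_bijective hH h hh A).comp (ofHomSet_bijective h A)

include hh hH in
theorem isRegularLocalRing_stalk [IsLocallyNoetherian H.left]
    (hs : ∀ {B A : Art k k} (p : B ⟶ A), IsSmallExt p → Function.Surjective ((ArtFun.localHilb X x I₀).map p))
    : IsRegularLocalRing (H.left.presheaf.stalk (pt h)) := by
  refine isRegularLocalRing_of_smooth (augO h) (augO_surjective h) fun B A μ hμ => ?_
  refine ArtFunLib.surjInduction (P := fun A B μ => Function.Surjective ((hR _ (augO h)).map μ))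
    (fun A B e he => (ArtFunLib.map_bijective _ e).2) (fun A B p hp ψ => ?_)
    (fun A B C p q _ _ hp hq z => ?_) μ hμ
  · obtain ⟨J, hJ⟩ := hs p hp (toFun h hh A ψ)
    obtain ⟨ψ', rfl⟩ := (toFun_bijective hH h hh B).2 J
    exact ⟨ψ', (toFun_bijective hH h hh A).1 ((toFun_map h hh p ψ').symm.trans hJ)⟩
  · obtain ⟨y, rfl⟩ := hq z
    obtain ⟨w, rfl⟩ := hp y
    exact ⟨w, ArtFunLib.map_comp' _ p q w⟩

end Groth.Agent.HilbSm18
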