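import Groth.Agent.Lib.HilbRep25.Ring
import Mathlib.RingTheory.Ideal.Cotangent
import Mathlib.Algebra.DualNumber
import Mathlib.RingTheory.Localization.AtPrime.Basic
import Mathlib.LinearAlgebra.Dimension.Constructions
import Mathlib.LinearAlgebra.Dual.Lemmas

/-!
# The tangent space of a chart of the Hilbert scheme at reduced points
-/

set_option autoImplicit false
set_option linter.unusedSectionVars false
set_option linter.style.haveILetI false
set_option backward.isDefEq.respectTransparency.types false

universe u

open Groth.Agent.HilbRep25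

namespace Groth.Agent.HilbSm18

variable {k C : Type u} [Field k] [CommRing C] [Algebra k C] {n : ℕ}

theorem sub_mem_ker {A : Type u} [CommRing A] [Algebra k A] (θ : A →ₐ[k] k) (a : A) :
    a - algebraMap k A (θ a) ∈ RingHom.ker θ := by simp [RingHom.mem_ker]

/-- A linear form vanishing on products of two elements of an ideal is one on the cotangent space. -/
theorem exists_cotangent_form {A M : Type u} [CommRing A] [Algebra k A] [AddCommGroup M] [Module k M]
    (I : Ideal A) (D : A →ₗ[k] M) (h : ∀ a ∈ I, ∀ b ∈ I, D (a * b) = 0) :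
    ∃ F : I.Cotangent →ₗ[k] M, ∀ z : I, F (I.toCotangent z) = D z.1 := by
  choose sec hsec using I.toCotangent_surjective
  have wd : ∀ z : I, D (sec (I.toCotangent z)).1 = D z.1 := fun z => by
    have h1 : ∀ a ∈ I * I, D a = 0 := fun a ha =>
      Submodule.mul_induction_on ha h fun a b ha hb => by rw [map_add, ha, hb, add_zero]
    have h2 := I.toCotangent_eq.1 (hsec (I.toCotangent z))
    rw [pow_two] at h2
    have h3 := h1 _ h2
    rwa [map_sub, sub_eq_zero] at h3
  refine ⟨{ toFun := fun c => D (sec c).1, map_add' := fun c d => ?_, map_smul' := fun r c => ?_ }, wd⟩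
  · obtain ⟨y, rfl⟩ := I.toCotangent_surjective c
    obtain ⟨z, rfl⟩ := I.toCotangent_surjective d
    rw [← map_add, wd, wd, wd]
    exact map_add D _ _
  · obtain ⟨y, rfl⟩ := I.toCotangent_surjective c
    rw [RingHom.id_apply, show r • I.toCotangent y = I.toCotangent ((algebraMap k A r) • y) by
      rw [map_smul, algebraMap_smul], wd, wd]
    show D (algebraMap k A r * y.1) = _
    rw [← Algebra.smul_def, map_smul]

variable (p : Fin n → C →ₐ[k] k) {β : Fin n → C}
  (hβ : ∀ i j, β i - (if i = j then 1 else 0) ∈ RingHom.ker (p j) ^ 2)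

section coord

variable {R : Type u} [CommRing R] [Algebra k R] (θR : R →ₐ[k] k)
  (hsq : ∀ a b : R, θR a = 0 → θR b = 0 → a * b = 0)

include hβ in
theorem apply_beta' (i j : Fin n) : p j (β i) = if i = j then 1 else 0 := by
  have h := Ideal.pow_le_self two_ne_zero (hβ i j)
  rw [RingHom.mem_ker, map_sub, sub_eq_zero] at h
  rw [h]; split <;> simp

include hβ hsq in
/-- Homomorphisms near the points give coordinates. -/
theorem isCoord_homs (φ : Fin n → C →ₐ[k] R) (hφ : ∀ i c, θR (φ i c) = p i c) :
    IsCoord k β fun c i => φ i c := by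
  have hb : ∀ i j, φ j (β i) = if i = j then 1 else 0 := fun i j => by
    have h1 : ∀ a ∈ RingHom.ker (p j) * RingHom.ker (p j), φ j a = 0 := fun a ha => by
      refine Submodule.mul_induction_on ha (fun b hb c hc => ?_) fun b c hb hc => by rw [map_add, hb, hc, add_zero]
      rw [map_mul]
      exact hsq _ _ ((hφ j b).trans (RingHom.mem_ker.1 hb)) ((hφ j c).trans (RingHom.mem_ker.1 hc))
    have h2 := h1 _ (by rw [← pow_two]; exact hβ i j)
    rw [map_sub, sub_eq_zero] at h2
    rw [h2]; split <;> simp
  exact {
    add := fun b c i => map_add _ _ _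
    smul := fun a c i => by rw [map_smul, Algebra.smul_def]
    unit := hb
    mul := fun b c i => by
      rw [Finset.sum_eq_single i]
      · rw [map_mul, map_mul, hb, if_pos rfl, one_mul]
      · intro q _ hq
        rw [map_mul, hb, if_neg hq, zero_mul, mul_zero]
      · simp }

variable {x : C → Fin n → R} (hx : IsCoord k β x) (hx0 : ∀ c i, θR (x c i) = p i c)

include hβ hsq hx hx0 in
/-- Coordinates near the points are given by homomorphisms. -/
theorem exists_homs : ∃ φ : Fin n → C →ₐ[k] R, ∀ i c, φ i c = x c i := by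
  have zero : x 0 = 0 := funext fun i => by
    have := hx.add 0 0 i
    rw [add_zero] at this
    exact left_eq_add.1 this
  have neg : ∀ a b i, x (a - b) i = x a i - x b i := fun a b i => by
    rw [eq_sub_iff_add_eq, ← hx.add, sub_add_cancel]
  -- products of two elements of the ideal of the points
  have kk : ∀ a b, (∀ j, p j a = 0) → (∀ j, p j b = 0) → ∀ i, x (a * b) i = 0 := fun a b ha hb i => by
    rw [hx.mul]
    refine Finset.sum_eq_zero fun q _ => hsq _ _ ((hx0 a q).trans (ha q)) ((hx0 _ i).trans ?_)
    rw [map_mul, hb, mul_zero]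
  have sum : ∀ (s : Finset (Fin n)) (g : Fin n → C) i, x (∑ q ∈ s, g q) i = ∑ q ∈ s, x (g q) i := fun s g i => by
    classical
    induction s using Finset.induction_on with
    | empty => simp [zero]
    | insert a s ha ih => rw [Finset.sum_insert ha, Finset.sum_insert ha, hx.add, ih]
  have hpb := apply_beta' p hβ
  have hβsq : ∀ q j, p j (β q - β q * β q) = 0 := fun q j => by
    rw [map_sub, map_mul, hpb]; split <;> simp
  have hall : ∀ j, p j (1 - ∑ q, β q) = 0 := fun j => by
    simp [hpb]
  -- elements vanishing twice at all the points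
  have kill : ∀ z : C, (∀ j, z ∈ RingHom.ker (p j) ^ 2) → ∀ i, x z i = 0 := fun z hz i => by
    have hz0 : ∀ j, p j z = 0 := fun j => RingHom.mem_ker.1 (Ideal.pow_le_self two_ne_zero (hz j))
    have h1 : ∀ q, x (z * β q) i = 0 := fun q => by
      have h2 : x (z * (β q * β q)) i = 0 := by
        have hzq := hz q
        rw [pow_two] at hzq
        refine Submodule.mul_induction_on (C := fun z => x (z * (β q * β q)) i = 0) hzq (fun a ha b hb => ?_)
          fun a b ha hb => by rw [add_mul, hx.add, ha, hb, add_zero]
        rw [show a * b * (β q * β q) = (a * β q) * (b * β q) by ring]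
        have : ∀ a : C, p q a = 0 → ∀ j, p j (a * β q) = 0 := fun a ha j => by
          rw [map_mul, hpb]; split
          · next h => rw [← h, ha, zero_mul]
          · rw [mul_zero]
        exact kk _ _ (this a (RingHom.mem_ker.1 ha)) (this b (RingHom.mem_ker.1 hb)) i
      have h3 := kk z (β q - β q * β q) hz0 (hβsq q) i
      rw [mul_sub, neg, h2, sub_zero] at h3
      exact h3
    have h4 := kk z (1 - ∑ q, β q) hz0 hall i
    rw [mul_sub, mul_one, neg, Finset.mul_sum, sum, Finset.sum_eq_zero fun q _ => h1 q, sub_zero] at h4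
    exact h4
  have hrel : ∀ q r i, x (β q * β r) i = if q = r then x (β q) i else 0 := fun q r i => by
    have h := kill (β q * β r - if q = r then β q else 0) (fun j => ?_) i
    · rw [neg, sub_eq_zero] at h
      rw [h]; split <;> simp [zero]
    · have hq := hβ q j
      have hr := hβ r j
      have e : β q * β r - (if q = r then β q else 0) =
          (β q - (if q = j then 1 else 0)) * β r + (if q = j then 1 else 0) * (β r - (if r = j then 1 else 0))
            - (if q = r then (β q - (if q = j then 1 else 0)) else 0) := by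
        rcases eq_or_ne q r with rfl | h
        · rcases eq_or_ne q j with rfl | h' <;> simp [*] <;> ring
        · rcases eq_or_ne q j with rfl | h' <;> simp [*, Ne.symm h] <;> ring
      rw [e]
      refine sub_mem (add_mem (Ideal.mul_mem_right _ _ hq) (Ideal.mul_mem_left _ _ hr)) ?_
      split
      · exact hq
      · exact zero_mem _
  have hbc : ∀ c q i, x (β q * c) i = if q = i then x c i else 0 := fun c q i => by
    rw [mul_comm, hx.mul]
    simp only [hrel, hx.unit]
    rw [Finset.sum_eq_single q (fun r _ hr => by rw [if_neg hr, mul_zero]) (by simp), if_pos rfl]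
    split
    · next h => rw [h, mul_one]
    · rw [mul_zero]
  have hmul : ∀ b c i, x (b * c) i = x b i * x c i := fun b c i => by
    rw [hx.mul, Finset.sum_eq_single i (fun q _ hq => by rw [hbc, if_neg hq, mul_zero]) (by simp), hbc, if_pos rfl]
  have hone : ∀ i, x 1 i = 1 := fun i => by
    have h := kill (1 - ∑ q, β q) (fun j => ?_) i
    · rw [neg, sum, sub_eq_zero] at h
      rw [h]
      simp [hx.unit]
    · have : 1 - ∑ q, β q = -∑ q, (β q - if q = j then 1 else 0) := by
        rw [Finset.sum_sub_distrib, Finset.sum_ite_eq' Finset.univ j (fun _ => (1 : C))]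
        simp
      rw [this]
      exact neg_mem (sum_mem fun q _ => hβ q j)
  exact ⟨fun i => AlgHom.ofLinearMap
    { toFun := fun c => x c i
      map_add' := fun b c => hx.add b c i
      map_smul' := fun a c => by rw [RingHom.id_apply, hx.smul, Algebra.smul_def] }
    (hone i) (fun b c => hmul b c i), fun i c => rfl⟩

end coord

section main

variable (θ : Univ k β →ₐ[k] k) (hθ : ∀ c i, θ (univCoord k β c i) = p i c)

include hβ hθ in
theorem finrank_cotangent_univ [∀ i, Module.Finite k (RingHom.ker (p i)).Cotangent] :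
    Module.finrank k (RingHom.ker θ).Cotangent = ∑ i, Module.finrank k (RingHom.ker (p i)).Cotangent := by
  let m := RingHom.ker θ
  let R := Univ k β ⧸ m ^ 2
  let θR : R →ₐ[k] k := Ideal.Quotient.liftₐ _ θ fun a ha => Ideal.pow_le_self two_ne_zero ha
  have hsq : ∀ a b : R, θR a = 0 → θR b = 0 → a * b = 0 := fun a b ha hb => by
    obtain ⟨a, rfl⟩ := Ideal.Quotient.mk_surjective a
    obtain ⟨b, rfl⟩ := Ideal.Quotient.mk_surjective b
    rw [← map_mul, Ideal.Quotient.eq_zero_iff_mem, pow_two]
    exact Ideal.mul_mem_mul (RingHom.mem_ker.2 ha) (RingHom.mem_ker.2 hb)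
  have hxR : IsCoord k β (fun c i => Ideal.Quotient.mkₐ k (m ^ 2) (univCoord k β c i)) := by
    have := IsCoord.map (R' := R) (isCoord_univ k β) (Ideal.Quotient.mkₐ k (m ^ 2))
    exact this
  have hx0 : ∀ c i, θR ((fun c i => Ideal.Quotient.mkₐ k (m ^ 2) (univCoord k β c i)) c i) = p i c :=
    fun c i => hθ c i
  obtain ⟨φ, hφ⟩ := exists_homs p hβ θR hsq hxR hx0
  have smd : ∀ (r : k) (z : Univ k β), r • z = algebraMap k (Univ k β) r * z := fun r z => Algebra.smul_def r z
  -- the class of an element
  let cls : Univ k β →ₗ[k] m.Cotangent :=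
    { toFun := fun z => m.toCotangent ⟨z - algebraMap k _ (θ z), sub_mem_ker θ z⟩
      map_add' := fun a b => by
        rw [← map_add]; congr 1; ext; simp; ring
      map_smul' := fun r a => by
        rw [RingHom.id_apply, ← algebraMap_smul (Univ k β) r (m.toCotangent _), ← map_smul]; congr 1; ext
        simp [smd, Algebra.smul_def, mul_sub] }
  have hcls : ∀ z : m, cls z.1 = m.toCotangent z := fun z => by
    show m.toCotangent _ = _
    congr 1; ext
    simp [RingHom.mem_ker.1 z.2]
  have cls_mul : ∀ a b, cls (a * b) = θ a • cls b + θ b • cls a := fun a b => by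
    show m.toCotangent _ = θ a • m.toCotangent _ + θ b • m.toCotangent _
    rw [← algebraMap_smul (Univ k β) (θ a) (m.toCotangent _), ← algebraMap_smul (Univ k β) (θ b) (m.toCotangent _),
      ← map_smul, ← map_smul, ← map_add, Ideal.toCotangent_eq, pow_two]
    have := Ideal.mul_mem_mul (sub_mem_ker θ a) (sub_mem_ker θ b)
    convert this using 1
    simp [map_mul, smd, Algebra.smul_def]
    ring
  have hD : ∀ i, ∃ L : (RingHom.ker (p i)).Cotangent →ₗ[k] m.Cotangent,
      ∀ z : RingHom.ker (p i), L ((RingHom.ker (p i)).toCotangent z) = cls (univCoord k β z.1 i) := fun i => by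
    let u : C →ₗ[k] Univ k β :=
      { toFun := fun c => univCoord k β c i
        map_add' := fun b c => (isCoord_univ k β).add b c i
        map_smul' := fun a c => by rw [RingHom.id_apply, (isCoord_univ k β).smul, smd] }
    refine exists_cotangent_form _ (cls.comp u) fun a ha b hb => ?_
    have h1 : univCoord k β (a * b) i - univCoord k β a i * univCoord k β b i ∈ m ^ 2 := by
      rw [← Ideal.Quotient.eq, map_mul]
      exact (hφ i (a * b)).symm.trans ((map_mul _ _ _).trans (congrArg₂ (· * ·) (hφ i a) (hφ i b)))
    have h2 : cls (univCoord k β (a * b) i - univCoord k β a i * univCoord k β b i) = 0 := by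
      rw [hcls ⟨_, Ideal.pow_le_self two_ne_zero h1⟩, Ideal.toCotangent_eq_zero]
      exact h1
    rw [map_sub, cls_mul, hθ, hθ, RingHom.mem_ker.1 ha, RingHom.mem_ker.1 hb, zero_smul, zero_smul, add_zero,
      sub_zero] at h2
    exact h2
  choose L hL using hD
  let Λ : (Π i, (RingHom.ker (p i)).Cotangent) →ₗ[k] m.Cotangent := ∑ i, (L i).comp (LinearMap.proj i)
  have hΛ : ∀ v, Λ v = ∑ i, L i (v i) := fun v => by simp [Λ]
  have hsurj : Function.Surjective Λ := by
    have key : ∀ z, cls z ∈ LinearMap.range Λ := fun z => by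
      obtain ⟨q, rfl⟩ := Ideal.Quotient.mk_surjective z
      induction q using MvPolynomial.induction_on with
      | C a =>
        have : cls (algebraMap k (Univ k β) a) = 0 := by
          show m.toCotangent _ = 0
          rw [Ideal.toCotangent_eq_zero]
          simp
        show cls (algebraMap k (Univ k β) a) ∈ _
        rw [this]; exact zero_mem _
      | add p q hp hq => rw [map_add, map_add]; exact add_mem hp hq
      | mul_X q t hq =>
        rw [map_mul, cls_mul]
        refine add_mem (Submodule.smul_mem _ _ ⟨Pi.single t.2 ((RingHom.ker (p t.2)).toCotangent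
          ⟨t.1 - algebraMap k C (p t.2 t.1), sub_mem_ker _ _⟩), ?_⟩) (Submodule.smul_mem _ _ hq)
        rw [hΛ, Finset.sum_eq_single t.2 (fun i _ hi => by rw [Pi.single_eq_of_ne hi, map_zero]) (by simp),
          Pi.single_eq_same, hL]
        show cls (univCoord k β (t.1 - algebraMap k C (p t.2 t.1)) t.2) = cls (univCoord k β t.1 t.2)
        have e : univCoord k β (t.1 - algebraMap k C (p t.2 t.1)) t.2 = univCoord k β t.1 t.2 +
            algebraMap k _ (-(p t.2 t.1)) * univCoord k β 1 t.2 := by
          rw [← (isCoord_univ k β).smul, ← (isCoord_univ k β).add, sub_eq_add_neg, Algebra.smul_def, mul_one,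
            map_neg]
        rw [e, ← smd, map_add, map_smul]
        have h1 : cls (univCoord k β 1 t.2) = 0 := by
          show m.toCotangent _ = 0
          rw [Ideal.toCotangent_eq_zero, ← Ideal.Quotient.eq_zero_iff_mem, map_sub, sub_eq_zero]
          show Ideal.Quotient.mk (m ^ 2) (univCoord k β 1 t.2) = _
          refine (hφ t.2 1).symm.trans ((map_one (φ t.2)).trans ?_)
          rw [hθ, map_one, map_one]
          exact (map_one (Ideal.Quotient.mk (m ^ 2))).symm
        rw [h1, smul_zero, add_zero]
    intro v
    obtain ⟨z, rfl⟩ := m.toCotangent_surjective v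
    rw [← hcls]
    exact key z.1
  have hinj : Function.Injective Λ := by
    rw [injective_iff_map_eq_zero]
    intro v hv
    funext i
    refine (Module.forall_dual_apply_eq_zero_iff k _).1 fun χ => ?_
    let P := RingHom.ker (p i)
    let χ' : C →ₗ[k] k :=
      { toFun := fun c => χ (P.toCotangent ⟨c - algebraMap k C (p i c), sub_mem_ker _ c⟩)
        map_add' := fun a b => by
          rw [← map_add, ← map_add]; congr 2; ext; simp; ring
        map_smul' := fun r a => by
          rw [RingHom.id_apply, ← map_smul, ← algebraMap_smul C r (P.toCotangent _), ← map_smul]; congr 2; ext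
          simp [Algebra.smul_def, mul_sub] }
    have hχ' : ∀ a b, χ' (a * b) = p i a * χ' b + p i b * χ' a := fun a b => by
      show χ (P.toCotangent _) = p i a • χ (P.toCotangent _) + p i b • χ (P.toCotangent _)
      have e : P.toCotangent ⟨a * b - algebraMap k C (p i (a * b)), sub_mem_ker _ _⟩ =
          algebraMap k C (p i a) • P.toCotangent ⟨b - algebraMap k C (p i b), sub_mem_ker _ _⟩ +
          algebraMap k C (p i b) • P.toCotangent ⟨a - algebraMap k C (p i a), sub_mem_ker _ _⟩ := by
        rw [← map_smul, ← map_smul, ← map_add, Ideal.toCotangent_eq, pow_two]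
        have := Ideal.mul_mem_mul (sub_mem_ker (p i) a) (sub_mem_ker (p i) b)
        convert this using 1
        simp [map_mul, Algebra.smul_def]
        ring
      rw [algebraMap_smul, algebraMap_smul] at e
      rw [← map_smul χ, ← map_smul χ, ← map_add χ]
      exact congrArg χ e
    have hχ1 : χ' 1 = 0 := by
      show χ (P.toCotangent _) = 0
      rw [show (⟨(1 : C) - algebraMap k C (p i 1), sub_mem_ker _ _⟩ : P) = 0 by ext; simp, map_zero, map_zero]
    let ψ : C →ₐ[k] DualNumber k := AlgHom.ofLinearMap
      ((Algebra.linearMap k (DualNumber k)).comp (p i).toLinearMap + (TrivSqZeroExt.inrHom k k).comp χ')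
      (by
        refine TrivSqZeroExt.ext ?_ ?_ <;> simp [TrivSqZeroExt.algebraMap_eq_inl, hχ1])
      (fun a b => by
        refine TrivSqZeroExt.ext ?_ ?_ <;> simp [TrivSqZeroExt.algebraMap_eq_inl, hχ']
        ring)
    let Φ : Fin n → C →ₐ[k] DualNumber k := fun j => if j = i then ψ else (Algebra.ofId k _).comp (p j)
    have hΦ : ∀ j c, TrivSqZeroExt.fstHom k k k (Φ j c) = p j c := fun j c => by
      by_cases h : j = i
      · subst h; simp [Φ, ψ, TrivSqZeroExt.algebraMap_eq_inl]
      · simp [Φ, h, TrivSqZeroExt.algebraMap_eq_inl]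
    have hsqD : ∀ a b : DualNumber k, TrivSqZeroExt.fstHom k k k a = 0 → TrivSqZeroExt.fstHom k k k b = 0 →
        a * b = 0 := fun a b ha hb => by
      simp only [TrivSqZeroExt.fstHom_apply] at ha hb
      refine TrivSqZeroExt.ext ?_ ?_ <;> simp [ha, hb]
    obtain ⟨θ', hθ', -⟩ := existsUnique_lift (isCoord_homs p hβ _ hsqD Φ hΦ)
    have hfst : (TrivSqZeroExt.fstHom k k k).comp θ' = θ := by
      refine Ideal.Quotient.algHom_ext _ (MvPolynomial.algHom_ext fun t => ?_)
      show TrivSqZeroExt.fstHom k k k (θ' (univCoord k β t.1 t.2)) = θ (univCoord k β t.1 t.2)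
      rw [hθ', hΦ, hθ]
    obtain ⟨F, hF⟩ := exists_cotangent_form m ((TrivSqZeroExt.sndHom k k).comp θ'.toLinearMap) fun a ha b hb => by
      have ha' : TrivSqZeroExt.fst (θ' a) = 0 := (AlgHom.congr_fun hfst a).trans (RingHom.mem_ker.1 ha)
      have hb' : TrivSqZeroExt.fst (θ' b) = 0 := (AlgHom.congr_fun hfst b).trans (RingHom.mem_ker.1 hb)
      simp [ha', hb']
    have hFL : ∀ j, j ≠ i → ∀ w, F (L j w) = 0 := fun j h w => by
      obtain ⟨z, rfl⟩ := (RingHom.ker (p j)).toCotangent_surjective w
      rw [hL]
      show F (m.toCotangent _) = 0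
      rw [hF]
      simp [map_sub, hθ', Φ, h, TrivSqZeroExt.algebraMap_eq_inl, RingHom.mem_ker.1 z.2]
    have hFi : ∀ w, F (L i w) = χ w := fun w => by
      obtain ⟨z, rfl⟩ := (RingHom.ker (p i)).toCotangent_surjective w
      rw [hL]
      show F (m.toCotangent _) = _
      rw [hF]
      simp [map_sub, hθ', Φ, ψ, TrivSqZeroExt.algebraMap_eq_inl]
      show χ (P.toCotangent _) = _
      congr 2; ext; simp [RingHom.mem_ker.1 z.2]
    have h := congrArg F hv
    rw [hΛ, map_sum, map_zero, Finset.sum_eq_single i (fun j _ hj => hFL j hj _) (by simp), hFi] at h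
    exact h
  rw [← (LinearEquiv.ofBijective Λ ⟨hinj, hsurj⟩).finrank_eq, Module.finrank_pi_fintype]

end main

/-- The cotangent space at a rational point of an algebra is that of its local ring. -/
theorem finrank_cotangentSpace_localization {A : Type u} [CommRing A] [Algebra k A] (θ : A →ₐ[k] k)
    [(RingHom.ker θ).IsPrime] :
    Module.finrank (IsLocalRing.ResidueField (Localization.AtPrime (RingHom.ker θ)))
        (IsLocalRing.CotangentSpace (Localization.AtPrime (RingHom.ker θ))) =
      Module.finrank k (RingHom.ker θ).Cotangent := by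
  let m := RingHom.ker θ
  let L := Localization.AtPrime m
  let M := IsLocalRing.maximalIdeal L
  have hm : m ≤ M.comap (algebraMap A L) := (IsLocalization.AtPrime.under_maximalIdeal L m).ge
  let φ := Ideal.mapCotangent m M (Algebra.ofId A L) hm
  haveI : m.IsMaximal := RingHom.ker_isMaximal_of_surjective θ fun c => ⟨algebraMap k A c, θ.commutes c⟩
  have hinj : Function.Injective φ := by
    rw [injective_iff_map_eq_zero]
    intro v hv
    obtain ⟨z, rfl⟩ := m.toCotangent_surjective v
    rw [Ideal.mapCotangent_toCotangent, Ideal.toCotangent_eq_zero] at hv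
    rw [Ideal.toCotangent_eq_zero]
    exact (IsLocalization.AtPrime.under_maximalIdeal_pow m L 2).le hv
  have hsurj : Function.Surjective φ := fun v => by
    obtain ⟨y, rfl⟩ := M.toCotangent_surjective v
    obtain ⟨q, hq⟩ := (IsLocalization.AtPrime.equivQuotMaximalIdealPow m L 2).surjective
      (Ideal.Quotient.mk _ y.1)
    obtain ⟨x, rfl⟩ := Ideal.Quotient.mk_surjective q
    rw [IsLocalization.AtPrime.equivQuotMaximalIdealPow_apply_mk, Ideal.Quotient.eq] at hq
    have hx : x ∈ m := by
      refine (IsLocalization.AtPrime.under_maximalIdeal L m).le ?_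
      show algebraMap A L x ∈ M
      have := add_mem (Ideal.pow_le_self two_ne_zero hq) y.2
      rwa [sub_add_cancel] at this
    refine ⟨m.toCotangent ⟨x, hx⟩, ?_⟩
    rw [Ideal.mapCotangent_toCotangent, Ideal.toCotangent_eq]
    exact hq
  let ι : k →+* IsLocalRing.ResidueField L :=
    (IsLocalRing.residue L).comp ((algebraMap A L).comp (algebraMap k A))
  have hι : Function.Bijective ι := by
    refine ⟨RingHom.injective _, fun c => ?_⟩
    obtain ⟨c, rfl⟩ := (IsLocalization.AtPrime.equivQuotMaximalIdeal m L).surjective c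
    obtain ⟨a, rfl⟩ := Ideal.Quotient.mk_surjective c
    refine ⟨θ a, ?_⟩
    rw [IsLocalization.AtPrime.equivQuotMaximalIdeal_apply_mk]
    refine (Ideal.Quotient.eq.2 ?_).symm
    show algebraMap A L a - algebraMap A L (algebraMap k A (θ a)) ∈ _
    rw [← map_sub]
    exact hm (sub_mem_ker θ a)
  refine (congrArg Cardinal.toNat (rank_eq_of_equiv_equiv ι
    (AddEquiv.ofBijective φ.toAddMonoidHom ⟨hinj, hsurj⟩) hι fun c v => ?_)).symm
  show φ (c • v) = ι c • φ v
  rw [← algebraMap_smul A c v, map_smul, ← algebraMap_smul L (algebraMap k A c) (φ v)]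
  rfl

end Groth.Agent.HilbSm18
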